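import Groth.Prelude.Def_W4c5suslinpi1abAdj

/-!
Adjunct forms and naturality of the projection morphisms, exterior products and shriek products of
`W4c5suslinpi1ab`.
-/

universe v u

open CategoryTheory MonoidalCategory Functor.LaxMonoidal Functor.OplaxMonoidal
open W4c5suslinpi1ab

namespace Groth.Agent.P1Adj

variable {C : Type u} [Category.{v} C] [MonoidalCategory C]
variable {D : Type u} [Category.{v} D] [MonoidalCategory D]
variable {L : C ⥤ D} {R : D ⥤ C} (adj : L ⊣ R)

theorem projR_symm [L.OplaxMonoidal] [R.LaxMonoidal] [adj.IsMonoidal] (A : D) (B : C) :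
    L.map (projR adj A B) ≫ adj.counit.app (A ⊗ L.obj B) =
      δ L (R.obj A) B ≫ (adj.counit.app A ⊗ₘ 𝟙 (L.obj B)) := by
  simp [projR, Adjunction.IsMonoidal.leftAdjoint_μ (adj := adj), ← δ_natural_right_assoc,
    MonoidalCategory.tensorHom_def', ← MonoidalCategory.whiskerLeft_comp_assoc]

theorem projL_symm [L.OplaxMonoidal] [R.LaxMonoidal] [adj.IsMonoidal] (A : C) (B : D) :
    L.map (projL adj A B) ≫ adj.counit.app (L.obj A ⊗ B) =
      δ L A (R.obj B) ≫ (𝟙 (L.obj A) ⊗ₘ adj.counit.app B) := by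
  simp [projL, Adjunction.IsMonoidal.leftAdjoint_μ (adj := adj), ← δ_natural_left_assoc,
    MonoidalCategory.tensorHom_def, ← MonoidalCategory.comp_whiskerRight_assoc]

variable [R.LaxMonoidal]

theorem projR_natural {A A' : D} {B B' : C} (a : A ⟶ A') (b : B ⟶ B') :
    (R.map a ⊗ₘ b) ≫ projR adj A' B' = projR adj A B ≫ R.map (a ⊗ₘ L.map b) := by
  have h := adj.unit.naturality b
  simp only [Functor.id_obj, Functor.id_map, Functor.comp_map] at h
  simp only [projR, Category.assoc, ← μ_natural, ← MonoidalCategory.id_tensorHom,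
    MonoidalCategory.tensorHom_comp_tensorHom_assoc, Category.comp_id, Category.id_comp, h]

theorem projL_natural {A A' : C} {B B' : D} (a : A ⟶ A') (b : B ⟶ B') :
    (a ⊗ₘ R.map b) ≫ projL adj A' B' = projL adj A B ≫ R.map (L.map a ⊗ₘ b) := by
  have h := adj.unit.naturality a
  simp only [Functor.id_obj, Functor.id_map, Functor.comp_map] at h
  simp only [projL, Category.assoc, ← μ_natural, ← MonoidalCategory.tensorHom_id,
    MonoidalCategory.tensorHom_comp_tensorHom_assoc, Category.comp_id, Category.id_comp, h]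

variable {S : C ⥤ D} (adj' : R ⊣ S) [∀ (A : D) (B : C), IsIso (projR adj A B)]

theorem cupShriek_symm (A B : C) :
    R.map (cupShriek adj adj' A B) ≫ adj'.counit.app (A ⊗ B) =
      inv (projR adj (S.obj A) B) ≫ (adj'.counit.app A ▷ B) := by
  exact (adj'.homEquiv_counit (g := cupShriek adj adj' A B)).symm.trans
    (Equiv.symm_apply_apply _ _)

theorem cupShriek_natural_right (A : C) {B B' : C} (b : B ⟶ B') :
    (S.obj A ◁ L.map b) ≫ cupShriek adj adj' A B' = cupShriek adj adj' A B ≫ S.map (A ◁ b) := by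
  apply (adj'.homEquiv _ _).symm.injective
  rw [adj'.homEquiv_naturality_left_symm, adj'.homEquiv_naturality_right_symm]
  simp only [cupShriek, Equiv.symm_apply_apply, Category.assoc]
  have h := projR_natural adj (𝟙 (S.obj A)) b
  rw [Functor.map_id, MonoidalCategory.id_tensorHom, MonoidalCategory.id_tensorHom] at h
  rw [← cancel_epi (projR adj (S.obj A) B)]
  simp only [IsIso.hom_inv_id_assoc, ← reassoc_of% h]
  exact whisker_exchange _ _

section Square

variable {S₀ : Type u} [Category.{v} S₀] [MonoidalCategory S₀]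
variable {Y₁ : Type u} [Category.{v} Y₁] [MonoidalCategory Y₁]
variable {Y₂ : Type u} [Category.{v} Y₂] [MonoidalCategory Y₂]
variable {X : Type u} [Category.{v} X] [MonoidalCategory X]
variable {fL : S₀ ⥤ Y₁} {fR : Y₁ ⥤ S₀} (adjf : fL ⊣ fR) {gR : Y₂ ⥤ S₀}
variable {pL : Y₁ ⥤ X} {pR : X ⥤ Y₁} (adjp : pL ⊣ pR)
variable {qL : Y₂ ⥤ X} {qR : X ⥤ Y₂} (adjq : qL ⊣ qR) (ν : qR ⋙ gR ⟶ pR ⋙ fR)
variable [fR.LaxMonoidal] [pR.LaxMonoidal]

theorem extProd_natural {A A' : Y₁} {B B' : Y₂} (a : A ⟶ A') (b : B ⟶ B') :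
    (fR.map a ⊗ₘ gR.map b) ≫ extProd adjf adjp adjq ν A' B' =
      extProd adjf adjp adjq ν A B ≫ fR.map (pR.map (pL.map a ⊗ₘ qL.map b)) := by
  have h := (bcMor adjf adjq ν).naturality b
  simp only [Functor.comp_map] at h
  simp only [extProd, Category.assoc, ← fR.map_comp, reassoc_of% (projR_natural adjf a (gR.map b))]
  congr 2
  simp only [← projL_natural adjp, ← MonoidalCategory.id_tensorHom,
    MonoidalCategory.tensorHom_comp_tensorHom_assoc, Category.comp_id, Category.id_comp, h]

instance isIso_extProd [∀ (A : Y₁) (B : S₀), IsIso (projR adjf A B)]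
    [∀ (A : Y₁) (B : X), IsIso (projL adjp A B)]
    [∀ B : Y₂, IsIso ((bcMor adjf adjq ν).app B)] (A : Y₁) (B : Y₂) :
    IsIso (extProd adjf adjp adjq ν A B) := by
  have h1 : IsIso (A ◁ (bcMor adjf adjq ν).app B) := inferInstance
  have h2 : IsIso (projR adjf A (gR.obj B)) := inferInstance
  have h3 : IsIso (projL adjp A (qL.obj B)) := inferInstance
  unfold extProd
  infer_instance

variable {fS : S₀ ⥤ Y₁} (adjf' : fR ⊣ fS) {gS : S₀ ⥤ Y₂} (adjg' : gR ⊣ gS)
variable {pS : Y₁ ⥤ X} (adjp' : pR ⊣ pS)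
variable [∀ (A : Y₁) (B : S₀), IsIso (projR adjf A B)]
  [∀ (A : Y₁) (B : X), IsIso (projL adjp A B)]
  [∀ B : Y₂, IsIso ((bcMor adjf adjq ν).app B)]

/-- Exterior product followed by the `pR ⊣ pS` transpose of the shriek product. -/
theorem extProd_comp_map_prodShriek (A B : S₀) :
    extProd adjf adjp adjq ν (fS.obj A) (gS.obj B) ≫
      fR.map (pR.map (prodShriek adjf adjf' adjg' adjp adjp' adjq ν A B)) ≫
        fR.map (adjp'.counit.app (fS.obj (A ⊗ B))) =
      projR adjf (fS.obj A) (gR.obj (gS.obj B)) ≫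
        fR.map (cupShriek adjf adjf' A (gR.obj (gS.obj B)) ≫ fS.map (A ◁ adjg'.counit.app B)) := by
  have key : pR.map (prodShriek adjf adjf' adjg' adjp adjp' adjq ν A B) ≫
      adjp'.counit.app (fS.obj (A ⊗ B)) = _ :=
    (adjp'.homEquiv_counit (g := prodShriek adjf adjf' adjg' adjp adjp' adjq ν A B)).symm.trans
      (Equiv.symm_apply_apply _ _)
  simp only [extProd, Category.assoc, ← fR.map_comp, key]
  congr 2
  simp [← MonoidalCategory.whiskerLeft_comp_assoc]

/-- Exterior product followed by the adjoint of the shriek product is the product of the counits. -/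
theorem extProd_comp_symm_prodShriek (A B : S₀) :
    extProd adjf adjp adjq ν (fS.obj A) (gS.obj B) ≫
      ((adjp'.comp adjf').homEquiv _ _).symm
        (prodShriek adjf adjf' adjg' adjp adjp' adjq ν A B) =
      (adjf'.counit.app A ⊗ₘ adjg'.counit.app B) := by
  simp only [Adjunction.comp_homEquiv, Equiv.symm_trans_apply]
  simp only [Adjunction.homEquiv_counit, Category.assoc, fR.map_comp]
  rw [reassoc_of% (extProd_comp_map_prodShriek adjf adjp adjq ν adjf' adjg' adjp' A B)]
  simp only [Category.assoc, fR.map_comp]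
  have h := adjf'.counit.naturality (A ◁ adjg'.counit.app B)
  simp only [Functor.id_map, Functor.comp_map, Functor.id_obj, Functor.comp_obj] at h
  rw [h, reassoc_of% (cupShriek_symm adjf adjf')]
  simp [MonoidalCategory.tensorHom_def]

end Square

end Groth.Agent.P1Adj
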